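import Cfsg.Agent.SectionFunctors.MaximalSylow
import Cfsg.Agent.SectionFunctors.Thompson
import Cfsg.Agent.ConjFunctor.KInfCritical
import Cfsg.Agent.PGroup.Critical
import Cfsg.Agent.Eq.Def_PLocal

/-!
In a constrained group with `p`-nilpotent `G/O_p(G)` and a maximal Sylow `p`-subgroup, `p` odd, the K-infinity
subgroups of that Sylow subgroup are normal.
-/

set_option autoImplicit false

open Cfsg
open CfsgLib.ConjFunctor
open scoped commutatorElement

namespace CfsgLib.SectionFunctors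

universe u

variable {X : Type u} [Group X] [Finite X] {p : ℕ} [Fact p.Prime]

/-- A critical subgroup of `O_p(X)`, as a subgroup of `X`. -/
theorem exists_critical_pCore (p : ℕ) [Fact p.Prime] (X : Type u) [Group X] [Finite X] :
    ∃ A : Subgroup X, A ≤ pCore p X ∧ (A.subgroupOf (pCore p X)).Characteristic ∧
      (∀ a ∈ A, a ^ p ∈ A ⊓ Subgroup.centralizer (A : Set X)) ∧
      ⁅A, A⁆ ≤ Subgroup.centralizer (A : Set X) ∧
      ⁅pCore p X, A⁆ ≤ A ⊓ Subgroup.centralizer (A : Set X) ∧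
      pCore p X ⊓ Subgroup.centralizer (A : Set X) = A ⊓ Subgroup.centralizer (A : Set X) ∧
      ∀ φ : MulAut ↥(pCore p X), (orderOf φ).Coprime p →
        (∀ a : ↥(pCore p X), (a : X) ∈ A → φ a = a) → φ = 1 := by
  set Q := pCore p X with hQ
  have hQp : IsPGroup p ↥Q := Constrained.isPGroup_pCore
  obtain ⟨C, hC⟩ := PGroup.exists_criticalSubgroup hQp
  haveI := hC.characteristic
  have hcent : ∀ c : ↥Q, c ∈ Subgroup.centralizer (C : Set ↥Q) ↔
      (c : X) ∈ Subgroup.centralizer ((C.map Q.subtype : Subgroup X) : Set X) := by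
    intro c
    simp only [Subgroup.mem_centralizer_iff, Subgroup.coe_map, Set.forall_mem_image]
    refine forall₂_congr fun d _ => ?_
    rw [Subtype.ext_iff]; rfl
  have hmem : ∀ c : ↥Q, (c : X) ∈ C.map Q.subtype ↔ c ∈ C := fun c => Subgroup.mem_map_iff_mem Q.subtype_injective
  have hcomm : ∀ x : ↥Q, ∀ c ∈ C, ⁅(x : X), (c : X)⁆ ∈ C.map Q.subtype ⊓
      Subgroup.centralizer ((C.map Q.subtype : Subgroup X) : Set X) := by
    intro x c hc
    have h1 : ⁅x, c⁆ ∈ C := hC.centralizer_le (hC.commutator_mem x c hc)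
    exact ⟨(hmem ⁅x, c⁆).mpr h1, (hcent ⁅x, c⁆).mp (hC.commutator_mem x c hc)⟩
  refine ⟨C.map Q.subtype, Subgroup.map_subtype_le C, ?_, ?_, ?_, ?_, ?_, fun φ hφ hfix =>
    hC.aut_eq_one hQp hφ fun c hc => hfix c ((hmem c).mpr hc)⟩
  · rwa [Subgroup.subgroupOf, Subgroup.comap_map_eq_self_of_injective Q.subtype_injective]
  · rintro _ ⟨c, hc, rfl⟩
    exact ⟨(hmem (c ^ p)).mpr (C.pow_mem hc p), (hcent (c ^ p)).mp (hC.pow_mem c hc)⟩
  · refine Subgroup.commutator_le.mpr ?_
    rintro _ ⟨a, -, rfl⟩ _ ⟨c, hc, rfl⟩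
    exact (hcomm a c hc).2
  · refine Subgroup.commutator_le.mpr ?_
    rintro a ha _ ⟨c, hc, rfl⟩
    exact hcomm ⟨a, ha⟩ c hc
  · refine le_antisymm (fun a ha => ⟨(hmem ⟨a, ha.1⟩).mpr (hC.centralizer_le ((hcent ⟨a, ha.1⟩).mpr ha.2)), ha.2⟩)
      (inf_le_inf_right _ (Subgroup.map_subtype_le C))

theorem kInf_normal_of_isCoatom (hp : p ≠ 2)
    (hX : Subgroup.centralizer ((pCore p X : Subgroup X) : Set X) ≤ pCore p X)
    (hq : HasNormalPComplement p (X ⧸ pCore p X)) (T : Sylow p X) (hT : IsCoatom (T : Subgroup X)) :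
    (inducedFunctor (G := X) kInfLower (T : Subgroup X)).Normal ∧
      (inducedFunctor (G := X) kInfUpper (T : Subgroup X)).Normal := by
  by_contra hcon
  rw [not_and_or] at hcon
  obtain ⟨A, hAQ, hAc, -, hA2, hA3, -, hA5⟩ := exists_critical_pCore p X
  obtain ⟨g, hgT, hgQ, -, -, hUV⟩ := exists_kInf_critical_element T A hAQ hAc hA2 hA3 hA5 hcon
  obtain ⟨U, V, hch, hUA, hquad, hne⟩ := hUV hX
  refine false_of_engel_of_isCoatom hq T hT hgT hgQ hch (hUA.trans hAQ) ?_ hne
  haveI := hch.2.2.1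
  obtain ⟨k, hk⟩ := Nat.exists_eq_add_of_le
    (show 2 ≤ p - 1 by have := (Fact.out : p.Prime).two_le; omega)
  rw [hk]
  clear hk
  induction k with
  | zero => simpa [iterCommutator] using hquad
  | succ k ih =>
    refine le_trans ?_ (Subgroup.commutator_le_left V (Subgroup.zpowers g))
    rw [← Nat.add_assoc, iterCommutator]
    exact Subgroup.commutator_mono ih le_rfl

end CfsgLib.SectionFunctors
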